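import Cfsg.Agent.G2c.M
import Cfsg.Agent.S3102
import Cfsg.Agent.S3100
import Cfsg.Agent.NC.H
import Cfsg.Agent.Dce.Ly.Main
import Cfsg.Agent.Comp.Mat
import Cfsg.Agent.Loc.Syl

/-! A simple group of order divisible by 13 without normal elementary subgroup of order eight in a Sylow subgroup. -/

set_option autoImplicit false

namespace CF.Gy

section
open Subgroup Matrix Cfsg CF.BG CF.Sig CF.GW CF.Ab2 CF.W2 CF.N8 CF.N8.GT CF.FW CF.G2c
open scoped MatrixGroups

universe v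
variable {G : Type v} [Group G] [Finite G]

/-- the Fong–Wong configuration at `x` -/
def Fw (x : G) : Prop := ∃ (F : Type) (_ : Field F) (_ : Finite F) (F' : Type) (_ : Field F') (_ : Finite F') (j : SL(2, F) →* G)
  (j' : SL(2, F') →* G) (δ : ℕ), FW j j' x δ ∧ centralizer {x} ⊔ oddCore G ≠ ⊤

theorem reduce1 [IsSimpleGroup G] {F : Type*} [Field F] [Fintype F] (hF : Odd (Fintype.card F)) (P : Sylow 2 G)
    {Q : Sylow 2 (Lie.chevG2.group F)} (e : (P : Subgroup G) ≃* (Q : Subgroup (Lie.chevG2.group F))) {x : G} (i : Iv x) :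
    Fw x ∨ Spor.IsoM12 G := by
  obtain ⟨p, he, φ, h, -⟩ := setup hF P e
  refine (one_or he h).imp (fun o => ?_) And.right
  obtain ⟨g, eg⟩ := o x i
  let ψ := (MulAut.conj g⁻¹).toMonoidHom.comp φ
  have ex : ψ z = x := by simp [ψ, ← eg, mul_assoc]
  have h' : SM ψ := ⟨(MulAut.conj g⁻¹).injective.comp h.inj, by
    have := h.syl.cj g⁻¹
    rw [cj_top] at this
    rw [MonoidHom.range_comp]; exact this⟩
  have o' : One ψ := fun y iy => let ⟨k, ek⟩ := o y iy; ⟨g⁻¹ * k, by simp [ψ, ← ek, mul_assoc]⟩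
  obtain ⟨F, _, _, F', _, _, j, j', δ, k⟩ := exists_FW he h' o' (ih_all he _ G ψ (Nat.lt_succ_self _) h')
  refine ⟨F, _, inferInstance, F', _, inferInstance, j, j', δ, ex ▸ k, fun e => i.ne_one ?_⟩
  rw [oddCore_eq, (ns_of h).O, sup_bot_eq] at e
  exact (ns_of h).eq_one (mem_top _) fun x _ => mem_cent1.1 (e.ge (mem_top x))

end

open Subgroup Cfsg CF.Loc

theorem exit8 {G : Type*} [Group G] [Finite G] [IsSimpleGroup G] (hG : ¬ IsMulCommutative G) (h13 : 13 ∣ Nat.card G)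
    {S E U : Subgroup G} (sy : IsSyl 2 S ⊤) (h8 : ∀ E ≤ S, S ≤ 𝐍(E) → (∀ g ∈ E, g * g = 1) → Nat.card E ≠ 8) (lE : E ≤ S)
    (eE : ∀ g ∈ E, g * g = 1) (cE : Nat.card E = 8) (l : U ≤ S) (n : S ≤ 𝐍(U)) (e : ∀ g ∈ U, g * g = 1) (c : Nat.card U = 4)
    (k : ∀ u ∈ U, ∀ v ∈ U, u ≠ 1 → v ≠ 1 → IsConj u v) {x : G} (o : orderOf x = 2) : Fw x := by
  obtain ⟨P, rfl⟩ := sy.exists_sylow_top
  have s := Ab2.ns_top hG
  have cm : ∀ a ∈ E, ∀ b ∈ E, a * b = b * a := fun a ha b hb => by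
    rw [← inv_eq_of_mul_eq_one_left (eE _ (mul_mem ha hb)), mul_inv_rev, inv_eq_of_mul_eq_one_left (eE a ha),
      inv_eq_of_mul_eq_one_left (eE b hb)]
  rcases Agent.S3102.result (fun N _ => s.index_ne N) (fun z h => GW.Iv.ne_one h.1 (s.eq_one (mem_top z) fun x _ => by
      have := Invol.isolated_sup_centralizer h
      rw [show pPrimeCore 2 G = ⊥ from Sig.oddCore_eq.trans s.O, bot_sup_eq] at this
      exact mem_centralizer_singleton_iff.1 (this.ge (mem_top x)))) P (fun r => by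
      have := (Nat.card_congr (subgroupOfEquivOfLe lE).toEquiv).ge.trans (r _
        (le_centralizer_iff_isMulCommutative.1 fun x hx y hy => Subtype.ext (cm _ hy _ hx))
        fun x hx => Subtype.ext ((pow_two _).trans (eE _ hx)))
      omega)
    (fun E nE ea => card_map_of_injective (K := E) P.1.subtype_injective ▸ h8 _ (map_subtype_le _)
      (fun x hx => mem_normalizer_of_conj_mem (by rintro _ ⟨y, hy, rfl⟩; exact ⟨_, nE.conj_mem y hy ⟨x, hx⟩, rfl⟩))
      (by rintro _ ⟨y, hy, rfl⟩; exact congrArg Subtype.val ((pow_two y).symm.trans (ea.2 y hy))))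
    (U.subgroupOf P) (Invol.isKleinFour_iff.2 ⟨(Nat.card_congr (subgroupOfEquivOfLe l).toEquiv).trans c,
      fun x hx => Subtype.ext (e _ hx)⟩) (normal_subgroupOf_of_le_normalizer n)
    (fun u hu v hv u1 v1 => k _ hu _ hv (fun j => u1 (Subtype.ext j)) fun j => v1 (Subtype.ext j)) with
    ⟨K, _, _, c, Q, ⟨h⟩⟩ | h | h
  · refine (reduce1 (Nat.odd_iff.2 (by omega)) P h o).resolve_right fun ⟨f⟩ => ?_
    rw [(Nat.card_congr f.toEquiv).trans Comp.Mat.card_M12] at h13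
    exact absurd h13 (by decide)
  · rcases NC.isJ P h with h | h <;> rw [h.2] at h13 <;> exact absurd h13 (by decide)
  · obtain ⟨f⟩ := Agent.S3100.result hG P h
    rw [(Nat.card_congr f.toEquiv).trans Dce.Ly.isLy.2] at h13
    exact absurd h13 (by decide)

end CF.Gy
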