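import Cfsg.Agent.Gy.A

/-! Passage to the quotient by the odd core and back. -/

set_option autoImplicit false
set_option linter.unusedSectionVars false

namespace CF.Gy
open Cfsg Subgroup CF.Loc CF.Even CF.LX CF.Mz CF.Oh CF.SW CF.Jj.Rr CF.JC
open CF.J4 (EA HomOn norm_mem norm_mem')
open CF.StJ (Ce sq_ord)
open scoped commutatorElement

universe u
variable {M : Type*} {G : Type u} [Group M] [Finite M] [Group G] [Finite G] {J T : Subgroup M} {z : M}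
  {K O : Subgroup G} {π : G → M} {t : G}

theorem ex_qt (m : Mb J T z) (h : Rd J z K O π t) : ∃ (X : Type u) (_ : Group X) (_ : Finite X) (F : G → X) (κ : M → X)
    (p : X → M), Qt J z K O π t F κ p ∧ ∀ Y φ, Dl J κ (F t) Y φ → ∃ K₁ ψ, Wp J z K O π t K₁ ψ := by
  obtain ⟨X, _, _, F, hF, sF, kF⟩ := ex_quo O
  have e := h.toEm
  have tt := sq_ord h.ot
  have t1 : t ≠ 1 := fun k => by simpa [k] using h.ot
  have t0 : t ∈ 𝐂₁(t) := mem_c1.2 rfl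
  have tN := h.nO t0
  have tO : t ∉ O := fun k => t1 (odd2 h.od k tt)
  have KO : K ≤ 𝐂(O) := le_centralizer_comm.1 (h.lO.trans inf_le_left)
  have CN : 𝐂(O) ≤ 𝐍(O) := fun _ => KN
  have Kt : K ≤ 𝐂₁(t) := fun k hk => mem_c1.2 (cK h.tK hk)
  have dv : ∀ x ∈ 𝐍(O), ∀ y ∈ 𝐍(O), F x = F y ↔ x⁻¹ * y ∈ O := fun x hx y hy => by
    rw [← kF _ (mul_mem (inv_mem hx) hy), hF _ (inv_mem hx) _ hy, hF.inv hx, inv_mul_eq_one]
  have k1 : ∀ a ∈ K, ∀ b ∈ K, π a = π b → F a = F b := fun a ha b hb r => (dv _ (CN (KO ha)) _ (CN (KO hb))).2 (by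
    have i := mul_mem (inv_mem ha) hb
    have d := (E.ce e).div ha hb r
    refine (h.dec _ (E.Kπ e (le_normalizer i) d) (cK h.tK i)).resolve_right fun k => tO ?_
    obtain ⟨r, o⟩ := (E.ce e).odd _ i d
    have := pow_mem k (orderOf (a⁻¹ * b))
    rwa [Commute.mul_pow (cK h.tK i), pow_orderOf_eq_one, one_mul, o, pow_succ, pow_mul, pow_two, tt, one_pow,
      one_mul] at this)
  have uq : ∀ x ∈ 𝐍(O), ∀ y ∈ 𝐂(O), x * x = 1 → y * y = 1 → F y = F x → y = x := fun x hx y hy xx yy r => by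
    have i := (dv _ (CN hy) _ hx).1 r
    refine inv_mul_eq_one.1 (odd2 h.od i ?_)
    rw [← mul_assoc, cK (inv_mem hy) i, mul_assoc, mul_assoc, xx, mul_one, ← mul_inv_rev, yy, inv_one]
  have tC : t ∈ 𝐂(O) := mem_centralizer_iff'.2 fun o ho => mem_c1.1 (h.lO ho).2
  have lf : ∀ x ∈ 𝐍(O), F x ∈ 𝐂₁(F t) → x ∈ 𝐂₁(t) := fun x hx c => mem_c1.2 (conj_eq_iff.1 (uq _
    (mul_mem (mul_mem hx tN) (inv_mem hx)) _ tC (csq x tt) tt (by rw [hF.conj hx tN, mem_c1.1 c, mul_inv_cancel_right])).symm)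
  have dn : ∀ x ∈ 𝐂₁(t), F x ∈ 𝐂₁(F t) := fun x hx => mem_c1.2 (by
    rw [← hF _ (h.nO hx) _ tN, mem_c1.1 hx, hF _ tN _ (h.nO hx)])
  choose ρ ρ1 ρ2 using sF
  choose! σ σ1 σ2 using fun j (hj : j ∈ J) => (e.im j).1 hj
  have pF : ∀ x ∈ 𝐂₁(t), π (ρ (F x)) = π x := fun x hx => by
    have i := (dv _ (h.nO hx) _ (ρ1 _)).1 (ρ2 _).symm
    rw [← mul_inv_cancel_left x (ρ _), e.hπ _ (h.cN hx) _ (KN (h.lO i).1), E.πK e (h.lO i).1, mul_one]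
  have ρc : ∀ y ∈ 𝐂₁(F t), ρ y ∈ 𝐂₁(t) := fun y hy => lf _ (ρ1 y) ((ρ2 y).symm ▸ hy)
  have σN : ∀ j ∈ J, σ j ∈ 𝐍(O) := fun j hj => CN (KO (σ1 j hj))
  have L : Lo J z (fun j => F (σ j)) (fun y => π (ρ y)) (F t) := by
    refine ⟨Held.ord2 (by rw [← hF _ tN _ tN, tt, hF.one]) fun k => tO ((kF _ tN).1 k), fun a ha b hb => ?_,
      fun a ha b hb => ?_, fun j hj => dn _ (Kt (σ1 j hj)), fun j hj => (pF _ (Kt (σ1 j hj))).trans (σ2 j hj),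
      fun x hx => ⟨fun k => ?_, ?_⟩, fun x hx j hj => ?_, fun g k => ?_, ?_⟩
    · rw [← hF _ (σN a ha) _ (σN b hb)]
      exact k1 _ (σ1 _ (mul_mem ha hb)) _ (mul_mem (σ1 a ha) (σ1 b hb)) (by
        rw [(E.ce e).hom _ (σ1 a ha) _ (σ1 b hb), σ2 a ha, σ2 b hb, σ2 _ (mul_mem ha hb)])
    · have := pF _ (mul_mem (ρc a ha) (ρc b hb))
      rwa [hF _ (ρ1 a) _ (ρ1 b), ρ2, ρ2, e.hπ _ (h.cN (ρc a ha)) _ (h.cN (ρc b hb))] at this
    · refine (h.dec _ (E.Kπ e (h.cN (ρc x hx)) k) (mem_c1.1 (ρc x hx))).imp (fun r => ρ2 x ▸ (kF _ (ρ1 x)).2 r) fun r => ?_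
      have := (kF _ (mul_mem (ρ1 x) tN)).2 r
      rw [hF _ (ρ1 x) _ tN, ρ2, mul_eq_one_iff_eq_inv, ← hF.inv tN, inv_eq_of_mul_eq_one_left tt] at this
      exact this
    · rintro (rfl | rfl)
      exacts [by rw [← hF.one, pF _ (one_mem _), e.hπ.one], (pF _ t0).trans (E.πK e h.tK)]
    · have n := h.cN (ρc x hx)
      rw [← ρ2 x, ← hF.conj (ρ1 x) (σN j hj), ρ2]
      exact k1 _ (norm_mem' n (σ1 j hj)) _ (σ1 _ (m.nrm.conj_mem j hj _)) (by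
        rw [e.hπ.conj n (le_normalizer (σ1 j hj)), σ2 j hj, σ2 _ (m.nrm.conj_mem j hj _)])
    · obtain ⟨y, hy, yy, r⟩ := Ce'.l2 (E.ce e) m.zJ m.zz
      refine h.nz (ρ g) y hy r (uq _ (mul_mem (mul_mem (ρ1 g) tN) (inv_mem (ρ1 g))) _ (KO hy) (csq _ tt) yy ?_).symm
      rw [hF.conj (ρ1 g) tN, ρ2, k]
      exact k1 _ hy _ (σ1 _ m.zJ) (r.trans (σ2 _ m.zJ).symm)
    · obtain ⟨g, hg, k, hk, -, r, f⟩ := h.fu
      exact ⟨F g, by rw [← hF.conj hg tN, f, hF _ tN _ (CN (KO hk)), k1 _ hk _ (σ1 _ m.zJ) (r.trans (σ2 _ m.zJ).symm)]⟩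
  refine ⟨X, _, inferInstance, F, _, _, ⟨hF, fun y => ⟨_, ρ1 y, ρ2 y⟩, kF, L, fun k hk =>
    k1 _ (σ1 _ (E.πJ e hk)) _ hk (σ2 _ (E.πJ e hk)), pF, lf⟩, fun Y φ D => ?_⟩
  have nC : (hF.im 𝐂(O) CN).Normal := ⟨fun a ha g => by
    obtain ⟨x, hx, rfl⟩ := hF.mem_im.1 ha
    exact hF.mem_im.2 ⟨_, nK (ρ1 g) hx, by rw [hF.conj (ρ1 g) (CN hx), ρ2]⟩⟩
  have YC : Y ≤ hF.im 𝐂(O) CN := D.pf.trans (commutator_le.2 fun a ha b hb => by
    have i : a * (F t * a * F t) ∈ hF.im 𝐂(O) CN := D.dg a ha ▸ hF.mem_im.2 ⟨_, KO (σ1 _ (D.ce.mem a ha)), rfl⟩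
    have := mul_mem i (nC.conj_mem _ (inv_mem i) b)
    rwa [show a * (F t * a * F t) * (b * (a * (F t * a * F t))⁻¹ * b⁻¹) =
      a * ((F t * a * F t) * b * (F t * a * F t)⁻¹) * a⁻¹ * b⁻¹ by group, ← D.cm b hb a ha, mul_inv_cancel_right] at this)
  set P := hF.pre Y ⊓ 𝐂(O)
  have PN : P ≤ 𝐍(O) := inf_le_right.trans CN
  have ce : ∀ Q ≤ P, (∀ y ∈ Y, ∃ x ∈ Q, F x = y) → Ce F Q Y := fun Q l s => ⟨hF.mono (l.trans PN),
    fun n hn => (hF.mem_pre.1 (l hn).1).2, s, fun n hn k => h.od.of_dvd_nat (orderOf_dvd_natCard _ ((kF _ (PN (l hn))).1 k)),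
    fun k hk r n hn => (cK (l hn).2 ((kF _ (PN (l hk))).1 r)).symm⟩
  have CP := ce P le_rfl fun y hy => have ⟨x, hx, r⟩ := hF.mem_im.1 (YC hy); ⟨x, ⟨hF.mem_pre.2 ⟨CN hx, r ▸ hy⟩, hx⟩, r⟩
  have lP : ⁅P, P⁆ ≤ P := commutator_le_left_of_le_normalizer le_normalizer
  have C := ce _ lP fun y hy => im_com hF PN CP.sur (D.pf hy)
  have pf := Ce'.com CP lP fun x hx => C.sur _ (CP.mem x hx)
  have lC : ⁅P, P⁆ ≤ 𝐂(O) := lP.trans inf_le_right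
  generalize ⁅P, P⁆ = Q at C pf lC
  have QN := lC.trans CN
  have cen : ∀ x ∈ 𝐍(O), (∀ y ∈ Y, F x * y = y * F x) → x ∈ 𝐂(Q) := fun x hx k =>
    pf_cen pf (le_centralizer_comm.1 lC) hx fun n hn => (kF _ (mul_mem (mul_mem (mul_mem hx (QN hn)) (inv_mem hx))
      (inv_mem (QN hn)))).1 ((map_commutatorElement hF.hom ⟨x, hx⟩ ⟨n, QN hn⟩).trans
        (commutatorElement_eq_one_iff_mul_comm.2 (k _ (C.mem n hn))))
  have tw : ∀ b ∈ Q, F (t * b * t) = F t * F b * F t := fun b hb => by rw [hF _ (mul_mem tN (QN hb)) _ tN, hF _ tN _ (QN hb)]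
  have cm : ∀ a ∈ Q, ∀ b ∈ Q, a * (t * b * t) = t * b * t * a := fun a ha b hb =>
    cK (cen _ (mul_mem (mul_mem tN (QN hb)) tN) fun y hy => by rw [tw b hb, D.cm y hy _ (C.mem b hb)]) ha
  have hδ : HomOn Q fun n => n * (t * n * t) := fun a ha b hb => by
    calc _ = a * (b * (t * a * t)) * (t * t)⁻¹ * (t * b * t) * (t⁻¹ * t) := by rw [tt]; simp [mul_assoc, ← mul_assoc t t, tt]
      _ = _ := by rw [cm b hb a ha, tt]; group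
  have δ1 : ∀ a ∈ Q, F (a * (t * a * t)) = F (σ (φ (F a))) := fun a ha => by
    rw [hF _ (QN ha) _ (mul_mem (mul_mem tN (QN ha)) tN), tw a ha, D.dg _ (C.mem a ha)]
  have δ2 : ∀ a ∈ Q, ∃ k ∈ K, ∃ o ∈ O, a * (t * a * t) = k * o ∧ k * o ∈ 𝐂(O) := fun a ha =>
    have i := D.ce.mem _ (C.mem a ha)
    ⟨_, σ1 _ i, _, (dv _ (σN _ i) _ (mul_mem (QN ha) (mul_mem (mul_mem tN (QN ha)) tN))).1 (δ1 a ha).symm,
      (mul_inv_cancel_left _ _).symm, by rw [mul_inv_cancel_left]; exact mul_mem (lC ha) (mul_mem (mul_mem tC (lC ha)) tC)⟩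
  have δK : ∀ a ∈ Q, a * (t * a * t) ∈ K := fun a ha => (hδ.mem_pre.1 ((commutator_le (H₃ := hδ.pre K)).2 (fun a ha b hb =>
    hδ.mem_pre.2 ⟨mul_mem (mul_mem (mul_mem ha hb) (inv_mem ha)) (inv_mem hb), by
      obtain ⟨k, hk, o, ho, r, -⟩ := δ2 a ha
      obtain ⟨l, hl, w, hw, s, c⟩ := δ2 b hb
      rw [show ⁅a, b⁆ * (t * ⁅a, b⁆ * t) = ⁅a * (t * a * t), b * (t * b * t)⁆ from
        map_commutatorElement hδ.hom ⟨a, ha⟩ ⟨b, hb⟩, r, s]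
      have : ⁅k * o, l * w⁆ = k * l * k⁻¹ * l⁻¹ := by
        calc _ = k * (o * (l * w)) * o⁻¹ * k⁻¹ * (l * w)⁻¹ := by rw [commutatorElement_def]; group
          _ = k * l * (w * k⁻¹) * w⁻¹ * l⁻¹ := by rw [cK c ho]; group
          _ = _ := by rw [cK (KO (inv_mem hk)) hw]; group
      exact this ▸ mul_mem (mul_mem (mul_mem hk hl) (inv_mem hk)) (inv_mem hl)⟩) (pf ha))).2
  refine ⟨Q, fun x => φ (F x), h, ⟨fun a ha b hb => by simp only [C.hom a ha b hb, D.ce.hom _ (C.mem a ha) _ (C.mem b hb)],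
    fun n hn => D.ce.mem _ (C.mem n hn), fun j hj => ?_, fun n hn k => ?_, fun k hk r n hn =>
      cK (cen k (QN hk) fun y hy => (D.ce.cen _ (C.mem k hk) r y hy).symm) hn⟩, pf, cm, lC, fun a ha => ⟨δK a ha, ?_⟩⟩
  · obtain ⟨y, hy, rfl⟩ := D.ce.sur j hj
    obtain ⟨x, hx, rfl⟩ := C.sur y hy
    exact ⟨x, hx, rfl⟩
  · have o := D.ce.odd _ (C.mem n hn) k
    have := C.odd _ (pow_mem hn (orderOf (F n))) (by rw [C.hom.pow hn, pow_orderOf_eq_one])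
    exact (o.mul this).of_dvd_nat (orderOf_dvd_of_pow_eq_one (by rw [pow_mul, pow_orderOf_eq_one]))
  · rw [← pF _ (Kt (δK a ha)), δ1 a ha]
    exact L.pκ _ (D.ce.mem _ (C.mem a ha))

end CF.Gy
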